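import Cfsg.Agent.Lib.H2.Solv
import Cfsg.Agent.Lib.H1.SylowIn
import Cfsg.Agent.Lib.H4.KGV
import Mathlib.NumberTheory.ArithmeticFunction.Misc

/-!
# Class numbers of solvable groups (S4990): vocabulary

See `notes/KB.md`. The main theorem (`KB.kbound`) bounds the class number of a finite solvable
group `X` with Fitting subgroup `F`: `k(X) * 3 ^ c ≤ 3 ^ Ω(|F|) * |F|` for every strict chain of
length `c` of normal subgroups of `X` inside `F`.
-/

set_option autoImplicit false

namespace Cfsg.Agent.KB

open Cfsg Subgroup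

universe u

/-- the class number -/
noncomputable abbrev kk (G : Type*) [Group G] : ℕ := Nat.card (ConjClasses G)

/-- `3 ^ Ω(m) * m` -/
def gg (m : ℕ) : ℕ := 3 ^ ArithmeticFunction.cardFactors m * m

theorem gg_mul (a b : ℕ) : gg (a * b) = gg a * gg b := by
  rcases eq_or_ne a 0 with rfl | ha
  · simp [gg]
  rcases eq_or_ne b 0 with rfl | hb
  · simp [gg]
  simp only [gg, ArithmeticFunction.cardFactors_mul ha hb, pow_add]
  ring

theorem gg_one : gg 1 = 1 := by simp [gg]

theorem gg_prime_pow {p : ℕ} (hp : p.Prime) (n : ℕ) : gg (p ^ n) = 3 ^ n * p ^ n := by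
  simp [gg, ArithmeticFunction.cardFactors_apply_prime_pow hp]

theorem gg_prime {p : ℕ} (hp : p.Prime) : gg p = 3 * p := by
  simpa using gg_prime_pow hp 1

/-- a strict chain of length `c` of normal subgroups inside the Fitting subgroup -/
def Chain (X : Type*) [Group X] (c : ℕ) : Prop :=
  ∃ f : ℕ → Subgroup X, (∀ i, (f i).Normal) ∧ (∀ i < c, f i < f (i + 1)) ∧
    f c ≤ fittingSubgroup X

/-- the bound -/
def KBound (X : Type*) [Group X] : Prop :=
  ∀ c, Chain X c → kk X * 3 ^ c ≤ gg (Nat.card (fittingSubgroup X))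

/-- the bound for all solvable groups of order `< n` -/
def IH (n : ℕ) : Prop :=
  ∀ (Y : Type u) [Group Y] [Finite Y], Group.IsSolvable Y → Nat.card Y < n → KBound Y

theorem IH.mono {m n : ℕ} (h : IH.{u} n) (hmn : m ≤ n) : IH.{u} m :=
  fun Y _ _ hs hY => h Y hs (hY.trans_le hmn)

variable {X : Type*} [Group X]

theorem chain_zero : Chain X 0 :=
  ⟨fun _ => ⊥, fun _ => inferInstance, fun _ h => absurd h (Nat.not_lt_zero _), bot_le⟩

theorem chain_one (h : fittingSubgroup X ≠ ⊥) : Chain X 1 := by
  refine ⟨fun i => if i = 0 then ⊥ else fittingSubgroup X, fun i => ?_, fun i hi => ?_, by simp⟩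
  · dsimp only
    split_ifs <;> infer_instance
  · obtain rfl : i = 0 := by omega
    simpa using bot_lt_iff_ne_bot.2 h

theorem chain_two {U : Subgroup X} [U.Normal] (h0 : U ≠ ⊥) (h : U < fittingSubgroup X) :
    Chain X 2 := by
  refine ⟨fun i => if i = 0 then ⊥ else if i = 1 then U else fittingSubgroup X, fun i => ?_,
    fun i hi => ?_, by simp⟩
  · dsimp only
    split_ifs <;> infer_instance
  · obtain rfl | rfl : i = 0 ∨ i = 1 := by omega
    · simpa using bot_lt_iff_ne_bot.2 h0
    · simpa using h

theorem nil_of_comm (W : Type*) [Group W] [IsMulCommutative W] : Group.IsNilpotent W := by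
  open scoped IsMulCommutative in exact CommGroup.isNilpotent

theorem le_fitting_of_comm (W : Subgroup X) [W.Normal] [IsMulCommutative W] :
    W ≤ fittingSubgroup X := H1.le_fittingSubgroup inferInstance (nil_of_comm W)

/-- the Fitting subgroup centralizes every minimal normal subgroup -/
theorem fitting_le_centralizer [Finite X] (W : Subgroup X) [W.Normal]
    (hmin : ∀ M : Subgroup X, M.Normal → M ≤ W → M = ⊥ ∨ M = W) :
    fittingSubgroup X ≤ centralizer (W : Set X) := by
  rw [← commutator_eq_bot_iff_le_centralizer, commutator_comm]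
  rcases hmin ⁅W, fittingSubgroup X⁆ inferInstance (commutator_le_left _ _) with h | h
  · exact h
  · have h1 : W ≤ fittingSubgroup X := h.ge.trans (commutator_le_right _ _)
    have h2 := H1.eq_bot_of_le_commutator_of_isNilpotent h1 le_rfl h.ge
    rw [h2, commutator_bot_left]

end Cfsg.Agent.KB
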