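import Cfsg.Agent.Lib.KB.Defs
import Cfsg.Agent.Lib.H4.Extend
import Cfsg.Agent.Lib.H3.Cover
import Mathlib.GroupTheory.FiniteAbelian.Duality

/-!
# Characters over an invariant character
-/

set_option autoImplicit false

namespace Cfsg.Agent.KB

open Cfsg Subgroup H3 H5
open scoped ComplexConjugate

variable {G : Type*} [Group G] [Finite G]

theorem over_proj (N : Subgroup G) [N.Normal] [Fintype N] (θ : IrrCharacter N)
    (hinv : ∀ g : G, H4.cj g (θ : N → ℂ) = θ) (χ : IrrCharacter G)
    (h : classInner (fun n : N => (χ : G → ℂ) n) θ ≠ 0) (g : G) :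
    (χ : G → ℂ) g = (Nat.card N : ℂ)⁻¹ * (θ : N → ℂ) 1 *
      ∑ n : N, conj ((θ : N → ℂ) n) * (χ : G → ℂ) (n * g) := by
  have := Fintype.ofFinite G
  have hc : inc ℂ N (blockIdem {θ}) ∈ cen ℂ G := inc_blockIdem_mem_cen fun g φ => by
    simp only [Set.mem_singleton_iff]
    refine ⟨fun e => ?_, fun e => e.symm ▸ Subtype.ext (hinv g)⟩
    rw [← cjIrr_cjIrr_inv g φ, e]
    exact Subtype.ext (hinv g⁻¹)
  have h1 := ev_cen_mul χ hc (MonoidAlgebra.single g 1)
  rw [om_inc_of_under χ.2 θ.2 h hc, om_blockIdem_of_mem (Set.mem_singleton θ), ev_single, one_mul, one_mul,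
    ev_mul_single, ← ev_eq_sum (fun x => (χ : G → ℂ) (x * g)), ev_inc, ev_eq_sum] at h1
  rw [← h1, Finset.mul_sum]
  refine Finset.sum_congr rfl fun n _ => ?_
  rw [coeff_blockIdem, blockCoeff_eq, fs_singleton, Finset.sum_singleton]
  ring

theorem over_coset (N : Subgroup G) [hN : N.Normal] [Fintype N] (θ : IrrCharacter N)
    (hinv : ∀ g : G, H4.cj g (θ : N → ℂ) = θ) (x : G) :
    ∃ u : N → ℂ, ∀ χ : IrrCharacter G, classInner (fun n : N => (χ : G → ℂ) n) θ ≠ 0 →
      ∃ c : ℂ, ∀ m : N, (χ : G → ℂ) (m * x) = c * u m := by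
  obtain ⟨d, ρ, hρ, hθ⟩ := θ.2
  obtain ⟨T, hT⟩ := H4.exists_mem_projGroup ρ (g := x) (by rw [hθ]; exact hinv x)
  refine ⟨fun m => LinearMap.trace ℂ _ (ρ m * T.1), fun χ hχ => ?_⟩
  set b : Module.End ℂ (Fin d → ℂ) := ∑ n : N, (χ : G → ℂ) (n * x) • ρ n⁻¹ with hb
  have hbk : ∀ k : N, b * ρ k = ρ ⟨x * k * x⁻¹, hN.conj_mem _ k.2 _⟩ * b := fun k => by
    set k' : N := ⟨x * k * x⁻¹, hN.conj_mem _ k.2 _⟩ with hk'
    rw [hb, Finset.sum_mul, Finset.mul_sum,
      ← Equiv.sum_comp ((Equiv.mulLeft k).trans (Equiv.mulRight k'⁻¹))]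
    refine Finset.sum_congr rfl fun n _ => ?_
    simp only [Equiv.trans_apply, Equiv.coe_mulLeft, Equiv.coe_mulRight, smul_mul_assoc,
      mul_smul_comm, ← map_mul]
    congr 1
    · rw [← irr_isClassFunction χ (n * x) k]
      congr 1
      simp only [hk', Subgroup.coe_mul, Subgroup.coe_inv]
      group
    · congr 1
      group
  obtain ⟨c, hc⟩ := exists_scalar_of_comm ρ (T⁻¹.1 * b) fun k => by
    have h1 : T.1 * ρ k = ρ ⟨x * k * x⁻¹, hN.conj_mem _ k.2 _⟩ * T.1 :=
      congrArg Units.val (hT k)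
    rw [mul_assoc, hbk, ← mul_assoc, ← mul_assoc]
    congr 1
    rw [Units.inv_mul_eq_iff_eq_mul, ← mul_assoc, h1, Units.mul_inv_cancel_right]
  have hbT : b = c • T.1 := by
    rw [Units.inv_mul_eq_iff_eq_mul] at hc
    rw [hc, mul_smul_comm, mul_one]
  refine ⟨(Nat.card N : ℂ)⁻¹ * (θ : N → ℂ) 1 * c, fun m => ?_⟩
  rw [over_proj N θ hinv χ hχ, mul_assoc _ c, ← smul_eq_mul c, ← map_smul, ← mul_smul_comm, ← hbT,
    hb, Finset.mul_sum _ _ (ρ m), map_sum, ← Equiv.sum_comp (Equiv.mulRight m⁻¹)]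
  congr 1
  refine Finset.sum_congr rfl fun n _ => ?_
  simp only [Equiv.coe_mulRight, mul_smul_comm, ← map_mul, map_smul, smul_eq_mul]
  rw [← IsCharacter_apply_inv (irr_isCharacter θ), ← hθ, mul_comm]
  congr 1
  · congr 1
    simp only [Subgroup.coe_mul, Subgroup.coe_inv]
    group
  · simp [Representation.character]

/-- `k(G | θ) ≤ k(G / N)` for an invariant `θ` -/
theorem card_over_le (N : Subgroup G) [N.Normal] [Fintype N] {θ : N → ℂ}
    (hθ : IsIrrCharacter N θ) (hinv : ∀ g : G, H4.cj g θ = θ) :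
    Set.ncard {χ : IrrCharacter G | classInner (fun n : N => (χ : G → ℂ) n) θ ≠ 0} ≤
      kk (G ⧸ N) := by
  classical
  choose u hu using over_coset N ⟨θ, hθ⟩ hinv
  have hm : ∀ x : G, ∃ m : N, u x m = 0 → ∀ n, u x n = 0 := fun x => by
    by_cases h : ∀ n, u x n = 0
    · exact ⟨1, fun _ => h⟩
    · obtain ⟨n, hn⟩ := not_forall.1 h
      exact ⟨n, fun h' => absurd h' hn⟩
  choose m hm using hm
  set S := {χ : IrrCharacter G | classInner (fun n : N => (χ : G → ℂ) n) θ ≠ 0} with hS
  have := Fintype.ofFinite S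
  have := Fintype.ofFinite (ConjClasses (G ⧸ N))
  let r : ConjClasses (G ⧸ N) → G := fun C => (crep C).out
  have hli : LinearIndependent ℂ fun (χ : S) (C : ConjClasses (G ⧸ N)) =>
      ((χ : IrrCharacter G) : G → ℂ) (m (r C) * r C) := by
    refine Fintype.linearIndependent_iff.2 fun a ha => ?_
    refine Fintype.linearIndependent_iff.1
      (irr_linearIndependent.comp (Subtype.val : S → IrrCharacter G) Subtype.val_injective) a ?_
    funext g
    choose c hc using fun χ : S => hu (r (ConjClasses.mk (g : G ⧸ N))) χ.1 χ.2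
    have h1 := congrFun ha (ConjClasses.mk (g : G ⧸ N))
    obtain ⟨y, hy⟩ := isConj_iff.1 (isConj_crep_mk (g : G ⧸ N)).symm
    obtain ⟨y, rfl⟩ := QuotientGroup.mk_surjective y
    set x := r (ConjClasses.mk (g : G ⧸ N)) with hx
    have h2 : y * g * y⁻¹ * x⁻¹ ∈ N := by
      rw [← QuotientGroup.eq_one_iff, QuotientGroup.mk_mul, QuotientGroup.mk_mul,
        QuotientGroup.mk_mul, QuotientGroup.mk_inv, QuotientGroup.mk_inv, hy, hx,
        QuotientGroup.out_eq', mul_inv_cancel]
    have h3 : ∀ χ : S, ((χ : IrrCharacter G) : G → ℂ) g = c χ * u x ⟨_, h2⟩ := fun χ => by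
      rw [← hc, ← irr_isClassFunction χ.1 g y]
      simp
    simp only [Finset.sum_apply, Pi.smul_apply, smul_eq_mul, Pi.zero_apply, Function.comp,
      ← hx, hc, h3, ← mul_assoc, ← Finset.sum_mul] at h1 ⊢
    rcases mul_eq_zero.1 h1 with h4 | h4
    · rw [h4, zero_mul]
    · rw [hm x h4, mul_zero]
  have h1 := hli.fintype_card_le_finrank
  rwa [Module.finrank_fintype_fun_eq_card, ← Nat.card_eq_fintype_card,
    ← Nat.card_eq_fintype_card, Nat.card_coe_set_eq] at h1

theorem charDegree_dvd_of_commutator_le (K : Subgroup G) [K.Normal] [Fintype K]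
    (hK : commutator G ≤ K) {χ : G → ℂ} (hχ : IsIrrCharacter G χ) {φ : K → ℂ}
    (hφ : IsIrrCharacter K φ) (h : classInner (fun k : K => χ k) φ ≠ 0) :
    charDegree χ ∣ K.index * charDegree φ := by
  classical
  have := Fintype.ofFinite G
  have hcomm : IsMulCommutative (G ⧸ K) := Normal.quotient_commutative_iff_commutator_le.2 hK
  let _ : CommGroup (G ⧸ K) := IsMulCommutative.instCommGroup
  have hcard : Nat.card (G ⧸ K →* ℂˣ) = K.index :=
    CommGroup.card_monoidHom_of_hasEnoughRootsOfUnity (G ⧸ K) ℂ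
  have : Finite (G ⧸ K →* ℂˣ) := Nat.finite_of_card_ne_zero (hcard ▸ K.index_ne_zero_of_finite)
  have := Fintype.ofFinite (G ⧸ K →* ℂˣ)
  let S : Subgroup (G ⧸ K →* ℂˣ) :=
    { carrier := {l | (fun g => χ g * l g) = χ}
      one_mem' := by simp
      mul_mem' := fun {a b} ha hb => funext fun g => by
        rw [MonoidHom.mul_apply, Units.val_mul, ← mul_assoc, congrFun ha g, congrFun hb g]
      inv_mem' := fun {a} ha => funext fun g => by
        conv_lhs => rw [← congrFun ha g]
        simp }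
  have hsum : ∀ g : G, ∑ l : G ⧸ K →* ℂˣ, (l g : ℂ) = if g ∈ K then (K.index : ℂ) else 0 := by
    intro g
    split_ifs with hg
    · simp [(QuotientGroup.eq_one_iff g).2 hg, ← hcard]
    · obtain ⟨l, hl⟩ := CommGroup.exists_apply_ne_one_of_hasEnoughRootsOfUnity (G ⧸ K) ℂ
        (mt (QuotientGroup.eq_one_iff g).1 hg)
      exact sum_hom_units_eq_zero ((Units.coeHom ℂ).comp (MonoidHom.eval (g : G ⧸ K)))
        fun e => hl (Units.ext (DFunLike.congr_fun e l))
  have h1 : classInner (fun k : K => χ k) (fun k : K => χ k) = Nat.card S := by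
    have h2 : (Nat.card S : ℂ) = ∑ l : G ⧸ K →* ℂˣ, classInner (fun g => χ g * l g) χ := by
      rw [Nat.card_eq_fintype_card, Fintype.card_subtype, Finset.card_filter, Nat.cast_sum]
      refine Finset.sum_congr rfl fun l _ => ?_
      split_ifs with hl
      · rw [show (fun g => χ g * l g) = χ from hl, IsIrrCharacter_classInner_self hχ, Nat.cast_one]
      · rw [Nat.cast_zero]
        exact (IsIrrCharacter_classInner_of_ne
          (H4.isIrr_mul_linear hχ (l.comp (QuotientGroup.mk' K))) hχ hl).symm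
    have h3 : (∑ l : G ⧸ K →* ℂˣ, fun g => χ g * l g) =
        (K.index : ℂ) • extendByZero K fun k : K => χ k := by
      funext g
      rw [Finset.sum_apply, ← Finset.mul_sum, hsum, Pi.smul_apply, H4.extendByZero_res]
      split_ifs <;> simp [mul_comm]
    rw [h2, ← H4.classInner_sum_left, h3, H4.classInner_smul_left, classInner, classInner,
      H4.sum_extendByZero_mul, ← K.index_mul_card, Nat.cast_mul]
    have : (K.index : ℂ) ≠ 0 := by exact_mod_cast K.index_ne_zero_of_finite
    field_simp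
  have hres := IsCharacter_restrict K (IsIrrCharacter_isCharacter hχ)
  have he := H4.mult_cast hres (IsIrrCharacter_isCharacter hφ)
  set e := H4.mult (fun k : K => χ k) φ with he'
  have h4 : Nat.card S = e * (H4.inertia (G := G) φ).index * e := by
    have h5 := congrArg (classInner (fun k : K => χ k)) (H4.clifford_sum hχ hφ h)
    rw [h1, H4.classInner_smul_right, H4.classInner_sum_right] at h5
    simp only [H4.classInner_res_cj (IsCharacter_isClassFunction (IsIrrCharacter_isCharacter hχ)),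
      ← he, Finset.sum_const, Finset.card_univ, ← Nat.card_eq_fintype_card, map_div₀,
      map_natCast, nsmul_eq_mul, ← (H4.inertia (G := G) φ).index_mul_card, Nat.cast_mul] at h5
    have : (Nat.card (H4.inertia (G := G) φ) : ℂ) ≠ 0 := by exact_mod_cast Nat.card_pos.ne'
    have h6 : (Nat.card S : ℂ) = e * (H4.inertia (G := G) φ).index * e := by
      rw [h5]
      field_simp
    exact_mod_cast h6
  rw [H4.clifford_degree hχ hφ h, ← mul_assoc]
  exact Nat.mul_dvd_mul_right ((Dvd.intro _ h4.symm).trans (hcard ▸ card_subgroup_dvd_card S)) _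

universe v in
theorem charDegree_dvd_aux (n : ℕ) : ∀ {G : Type v} [Group G] [Finite G], Nat.card G = n →
    Group.IsSolvable G → ∀ (K : Subgroup G) [K.Normal] [Fintype K] {χ : G → ℂ},
    IsIrrCharacter G χ → ∀ {φ : K → ℂ}, IsIrrCharacter K φ →
    classInner (fun k : K => χ k) φ ≠ 0 → charDegree χ ∣ K.index * charDegree φ := by
  induction n using Nat.strong_induction_on with
  | _ n ih =>
  intro G _ _ hn hs K _ _ χ hχ φ hφ h
  by_cases hK : commutator G ≤ K
  · exact charDegree_dvd_of_commutator_le K hK hχ hφ h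
  set L := K ⊔ commutator G with hL
  have hKL : K ≤ L := le_sup_left
  have hLt : L ≠ ⊤ := fun e => by
    have h1 : Nontrivial (G ⧸ K) := QuotientGroup.nontrivial_iff.2 fun e => hK (e ▸ le_top)
    refine (Group.IsSolvable.commutator_lt_top_of_nontrivial (G ⧸ K)).ne ?_
    have h2 := congrArg (map (QuotientGroup.mk' K)) e
    rwa [hL, Subgroup.map_sup, QuotientGroup.map_mk'_self, bot_sup_eq, _root_.commutator_def,
      map_commutator, map_top_of_surjective _ (QuotientGroup.mk'_surjective K)] at h2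
  have := Fintype.ofFinite G
  have := Fintype.ofFinite L
  have := Fintype.ofFinite (K.subgroupOf L)
  obtain ⟨ψ, h1, h2⟩ := H4.exists_intermediate_const hKL
    (IsCharacter_isClassFunction (IsIrrCharacter_isCharacter hχ)) h
  have h3 := charDegree_dvd_of_commutator_le L le_sup_right hχ ψ.2 h1
  have h4 := ih _ (hn ▸ H1.card_lt_of_ne_top hLt) rfl inferInstance (K.subgroupOf L) ψ.2
    (H4.isIrr_comp_equiv (subgroupOfEquivOfLe hKL) hφ) (by
      rwa [← H4.classInner_comp_equiv (subgroupOfEquivOfLe hKL).toEquiv] at h2)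
  rw [show charDegree (fun h => φ (subgroupOfEquivOfLe hKL h)) = charDegree φ by
    simp [charDegree]] at h4
  refine h3.trans ?_
  rw [← relIndex_mul_index hKL, mul_comm (K.relIndex L), mul_assoc]
  exact Nat.mul_dvd_mul_left _ h4

/-- `χ(1) / φ(1)` divides `|G : K|` (solvable case) -/
theorem charDegree_dvd_index_mul (hs : Group.IsSolvable G) (K : Subgroup G) [K.Normal] [Fintype K]
    {χ : G → ℂ} (hχ : IsIrrCharacter G χ) {φ : K → ℂ} (hφ : IsIrrCharacter K φ)
    (h : classInner (fun k : K => χ k) φ ≠ 0) : charDegree χ ∣ K.index * charDegree φ :=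
  charDegree_dvd_aux _ rfl hs K hχ hφ h

end Cfsg.Agent.KB
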